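import Mathlib

/-! Descent of morphisms of schemes over a base along fppf-locally split morphisms. -/

universe u

open CategoryTheory CategoryTheory.Limits MonoidalCategory CartesianMonoidalCategory AlgebraicGeometry

namespace Groth.Agent.ExtCentral

variable {S : Scheme.{u}}

/-- `q` acquires sections on a covering sieve of its target for the fppf topology. -/
def LocSplit {A B : Over S} (q : A ⟶ B) : Prop :=
  ∃ T : Sieve B.left, T ∈ Scheme.fppfTopology B.left ∧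
    ∀ (Z : Over S) (h : Z ⟶ B), T h.left → ∃ s : Z ⟶ A, s ≫ q = h

theorem left_hom_ext {Y : Scheme.{u}} {B : Scheme.{u}} {T : Sieve B} (hT : T ∈ Scheme.fppfTopology B)
    {m m' : B ⟶ Y} (h : ∀ {W : Scheme.{u}} (f : W ⟶ B), T f → f ≫ m = f ≫ m') : m = m' :=
  ((GrothendieckTopology.Subcanonical.isSheaf_of_isRepresentable
    (J := Scheme.fppfTopology.{u}) (yoneda.obj Y)).isSheafFor T.arrows
    (by rwa [Sieve.generate_sieve])).isSeparatedFor.ext fun _ f hf => h f hf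

theorem locSplit_of_presieve {A B : Over S} (q : A ⟶ B) (R : Presieve B.left)
    (hR : R ∈ Scheme.fppfPrecoverage B.left)
    (h : ∀ ⦃W : Scheme.{u}⦄ (f : W ⟶ B.left), R f → ∃ s : W ⟶ A.left, s ≫ q.left = f) : LocSplit q := by
  refine ⟨Sieve.generate R, Precoverage.generate_mem_toGrothendieck hR, ?_⟩
  rintro Z k ⟨W, g, f, hf, hgf⟩
  obtain ⟨s, hs⟩ := h f hf
  refine ⟨Over.homMk (g ≫ s) ?_, ?_⟩
  · rw [Category.assoc, ← Over.w q, reassoc_of% hs, ← Category.assoc, hgf, Over.w k]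
  · ext
    change (g ≫ s) ≫ q.left = k.left
    rw [Category.assoc, hs, hgf]

theorem LocSplit.hom_ext {A B G : Over S} {q : A ⟶ B} (hq : LocSplit q) {m m' : B ⟶ G}
    (h : q ≫ m = q ≫ m') : m = m' := by
  obtain ⟨T, hT, hs⟩ := hq
  ext
  refine left_hom_ext hT fun {W} f hf => ?_
  obtain ⟨s, hs'⟩ := hs (Over.mk (f ≫ B.hom)) (Over.homMk f) hf
  have := congrArg (fun z : Over.mk (f ≫ B.hom) ⟶ G => z.left)
    (show Over.homMk f ≫ m = Over.homMk f ≫ m' by rw [← hs', Category.assoc, Category.assoc, h])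
  exact this

theorem LocSplit.exists_desc {A B G : Over S} {q : A ⟶ B} (hq : LocSplit q) (l : A ⟶ G)
    (hl : ∀ {Z : Over S} (a b : Z ⟶ A), a ≫ q = b ≫ q → a ≫ l = b ≫ l) :
    ∃ m : B ⟶ G, q ≫ m = l := by
  obtain ⟨T, hT, hs⟩ := hq
  have hs' : ∀ {W : Scheme.{u}} (f : W ⟶ B.left), T f →
      ∃ s : Over.mk (f ≫ B.hom) ⟶ A, s ≫ q = Over.homMk f := fun f hf =>
    hs (Over.mk (f ≫ B.hom)) (Over.homMk f) hf
  choose σ hσ using @hs'
  let x : Presieve.FamilyOfElements (yoneda.obj G.left) T.arrows := fun W f hf => (σ f hf ≫ l).left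
  have hx : x.Compatible := by
    intro W₁ W₂ Z g₁ g₂ f₁ f₂ h₁ h₂ e
    let a : Over.mk (g₁ ≫ f₁ ≫ B.hom) ⟶ A := Over.homMk (g₁ ≫ (σ f₁ h₁).left) (by
      rw [Category.assoc, Over.w (σ f₁ h₁)]; rfl)
    let b : Over.mk (g₁ ≫ f₁ ≫ B.hom) ⟶ A := Over.homMk (g₂ ≫ (σ f₂ h₂).left) (by
      rw [Category.assoc, Over.w (σ f₂ h₂)]; exact ((Category.assoc _ _ _).symm.trans ((congrArg (· ≫ B.hom) e.symm).trans (Category.assoc _ _ _))))
    have key := hl a b (by
      ext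
      change (g₁ ≫ (σ f₁ h₁).left) ≫ q.left = (g₂ ≫ (σ f₂ h₂).left) ≫ q.left
      rw [Category.assoc, Category.assoc, ← Over.comp_left, ← Over.comp_left, hσ, hσ]
      exact e)
    have key' := congrArg (fun z : Over.mk (g₁ ≫ f₁ ≫ B.hom) ⟶ G => z.left) key
    change g₁ ≫ (σ f₁ h₁).left ≫ l.left = g₂ ≫ (σ f₂ h₂).left ≫ l.left
    simpa [a, b] using key'
  obtain ⟨m₀, hm₀, -⟩ := ((GrothendieckTopology.Subcanonical.isSheaf_of_isRepresentable
    (J := Scheme.fppfTopology.{u}) (yoneda.obj G.left)).isSheafFor T.arrows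
    (by rwa [Sieve.generate_sieve])) x hx
  have hm : ∀ {W : Scheme.{u}} (f : W ⟶ B.left) (hf : T f), f ≫ m₀ = (σ f hf ≫ l).left := fun f hf =>
    hm₀ f hf
  have hw : m₀ ≫ G.hom = B.hom := left_hom_ext hT fun {W} f hf => by
    rw [← Category.assoc, hm f hf, Over.w]; rfl
  refine ⟨Over.homMk m₀ hw, ?_⟩
  ext
  change q.left ≫ m₀ = l.left
  refine left_hom_ext (Scheme.fppfTopology.pullback_stable q.left hT) fun {W} f hf => ?_
  let a : Over.mk ((f ≫ q.left) ≫ B.hom) ⟶ A := Over.homMk f (by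
    rw [← Over.w q, ← Category.assoc]; rfl)
  have key := congrArg (fun z : Over.mk ((f ≫ q.left) ≫ B.hom) ⟶ G => z.left)
    (hl a (σ (f ≫ q.left) hf) (by rw [hσ]; ext; rfl))
  rw [← Category.assoc, hm (f ≫ q.left) hf]
  exact key.symm

theorem LocSplit.tensor {A B A' B' : Over S} {q : A ⟶ B} {q' : A' ⟶ B'} (hq : LocSplit q) (hq' : LocSplit q') :
    LocSplit (q ⊗ₘ q') := by
  obtain ⟨T, hT, hs⟩ := hq
  obtain ⟨T', hT', hs'⟩ := hq'
  refine ⟨T.pullback (fst B B').left ⊓ T'.pullback (snd B B').left,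
    Scheme.fppfTopology.intersection_covering (Scheme.fppfTopology.pullback_stable _ hT)
      (Scheme.fppfTopology.pullback_stable _ hT'), ?_⟩
  rintro Z k ⟨h₁, h₂⟩
  obtain ⟨s, hs⟩ := hs Z (k ≫ fst B B') h₁
  obtain ⟨s', hs'⟩ := hs' Z (k ≫ snd B B') h₂
  refine ⟨lift s s', ?_⟩
  apply CartesianMonoidalCategory.hom_ext <;> simp [hs, hs']

theorem locSplit_id (A : Over S) : LocSplit (𝟙 A) :=
  ⟨⊤, Scheme.fppfTopology.top_mem _, fun _ h _ => ⟨h, Category.comp_id h⟩⟩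

end Groth.Agent.ExtCentral
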